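import Groth.Agent.Azu26.Basic
import Mathlib.RingTheory.Spectrum.Maximal.Defs
import Mathlib.RingTheory.Jacobson.Ideal
import Mathlib.RingTheory.Ideal.Quotient.Operations
import Mathlib.RingTheory.Idempotents
import Mathlib.LinearAlgebra.Matrix.ToLin
import Mathlib.LinearAlgebra.Matrix.Basis
import Mathlib.LinearAlgebra.Matrix.NonsingularInverse
import Mathlib.LinearAlgebra.Matrix.ToLinearEquiv

/-! Splitting and inner automorphisms over semilocal rings. -/

namespace Groth.Agent.Azu26

universe u v w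

section

variable {R : Type u} [CommRing R]

theorem fg_eq_bot_of_le_smul {N : Type v} [AddCommGroup N] [Module R N] {K : Submodule R N}
    (hK : K.FG) (h : ∀ m : Ideal R, m.IsMaximal → K ≤ m • K) : K = ⊥ := by
  suffices hann : K.annihilator = ⊤ by
    exact Submodule.annihilator_eq_top_iff.1 hann
  by_contra hne
  obtain ⟨m, hm, hle⟩ := Ideal.exists_le_maximal _ hne
  obtain ⟨r, hr, hr0⟩ :=
    Submodule.exists_sub_one_mem_and_smul_eq_zero_of_fg_of_le_smul m K hK (h m hm)
  have : r ∈ m := hle (Submodule.mem_annihilator.2 hr0)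
  exact hm.ne_top ((Ideal.eq_top_iff_one m).2 (by simpa using m.sub_mem this hr))

/-- A map of finite modules into a projective one which is residually bijective is bijective. -/
theorem bijective_of_mod {M : Type v} {N : Type w} [AddCommGroup M] [Module R M] [Module.Finite R M]
    [AddCommGroup N] [Module R N] [Module.Finite R N] [Module.Projective R N] (f : M →ₗ[R] N)
    (hs : ∀ m : Ideal R, m.IsMaximal → ∀ y, ∃ x, y - f x ∈ m • (⊤ : Submodule R N))
    (hi : ∀ m : Ideal R, m.IsMaximal → ∀ x, f x ∈ m • (⊤ : Submodule R N) →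
      x ∈ m • (⊤ : Submodule R M)) : Function.Bijective f := by
  have hsurj : LinearMap.range f = ⊤ := by
    have hQ : (⊤ : Submodule R (N ⧸ LinearMap.range f)) = ⊥ := by
      refine fg_eq_bot_of_le_smul Module.Finite.fg_top fun m hm z _ => ?_
      obtain ⟨y, rfl⟩ := Submodule.mkQ_surjective _ z
      obtain ⟨x, hx⟩ := hs m hm y
      have h1 := Submodule.mem_map_of_mem (f := (LinearMap.range f).mkQ) hx
      rw [Submodule.map_smul'', Submodule.map_top, Submodule.range_mkQ, map_sub] at h1
      have h0 : (LinearMap.range f).mkQ (f x) = 0 :=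
        (Submodule.Quotient.mk_eq_zero _).2 ⟨x, rfl⟩
      rwa [h0, sub_zero] at h1
    rw [eq_top_iff]
    intro y _
    have : (LinearMap.range f).mkQ y ∈ (⊥ : Submodule R (N ⧸ LinearMap.range f)) := hQ ▸ trivial
    exact (Submodule.Quotient.mk_eq_zero _).1 ((Submodule.mem_bot R).1 this)
  obtain ⟨s, hs'⟩ := Module.projective_lifting_property f LinearMap.id (LinearMap.range_eq_top.1 hsurj)
  refine ⟨?_, LinearMap.range_eq_top.1 hsurj⟩
  let p : M →ₗ[R] M := LinearMap.id - s ∘ₗ f
  have hfp : ∀ x, f (p x) = 0 := by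
    intro x
    have := LinearMap.congr_fun hs' (f x)
    simp only [LinearMap.comp_apply, LinearMap.id_apply] at this
    simp [p, this]
  have hK : LinearMap.range p = ⊥ := by
    refine fg_eq_bot_of_le_smul (by rw [← Submodule.map_top]; exact Module.Finite.fg_top.map _)
      fun m hm x hx => ?_
    obtain ⟨x₀, rfl⟩ := hx
    have hmem : p x₀ ∈ m • (⊤ : Submodule R M) := hi m hm _ (by rw [hfp]; exact zero_mem _)
    have h2 := Submodule.mem_map_of_mem (f := p) hmem
    rw [Submodule.map_smul'', Submodule.map_top] at h2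
    have hpp : p (p x₀) = p x₀ := by
      change p x₀ - s (f (p x₀)) = p x₀
      rw [hfp, map_zero, sub_zero]
    rwa [hpp] at h2
  rw [injective_iff_map_eq_zero]
  intro x hx
  have : p x = 0 := by
    have h2 : p x ∈ LinearMap.range p := ⟨x, rfl⟩
    rwa [hK, Submodule.mem_bot] at h2
  simpa [p, hx] using this

variable {A : Type v} [Ring A] [Algebra R A]

theorem mem_jacobson_smul [Module.Projective R A] [Module.Finite R A] {x : A}
    (h : ∀ m : Ideal R, m.IsMaximal → x ∈ m • (⊤ : Submodule R A)) :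
    x ∈ Ideal.jacobson (⊥ : Ideal R) • (⊤ : Submodule R A) := by
  obtain ⟨n, φ, e, he⟩ := exists_dualBasis R A
  rw [← he x]
  refine Submodule.sum_mem _ fun i _ => Submodule.smul_mem_smul ?_ trivial
  refine Ideal.mem_sInf.2 fun {m} hm => ?_
  have h1 := Submodule.mem_map_of_mem (f := φ i) (h m hm.2)
  rw [Submodule.map_smul''] at h1
  exact Submodule.smul_le.2 (fun r hr y _ => m.mul_mem_right y hr) h1

theorem smul_mem_of_mem_jacobson {x : A} {m : Ideal R} (hm : m.IsMaximal)
    (h : x ∈ Ideal.jacobson (⊥ : Ideal R) • (⊤ : Submodule R A)) :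
    x ∈ m • (⊤ : Submodule R A) :=
  Submodule.smul_mono_left (sInf_le ⟨bot_le, hm⟩ : Ideal.jacobson (⊥ : Ideal R) ≤ m) h

theorem isUnit_one_add [Module.Finite R A] {y : A}
    (hy : y ∈ Ideal.jacobson (⊥ : Ideal R) • (⊤ : Submodule R A)) : IsUnit (1 + y) := by
  let L : A →ₗ[R] A := LinearMap.mulLeft R (1 + y)
  have hL : LinearMap.range L = ⊤ := by
    refine top_le_iff.1 (Submodule.le_of_le_smul_of_le_jacobson_bot (I := Ideal.jacobson ⊥)
      Module.Finite.fg_top le_rfl fun x _ => ?_)
    have hyx : -(y * x) ∈ Ideal.jacobson (⊥ : Ideal R) • (⊤ : Submodule R A) := by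
      refine neg_mem ?_
      have h1 := Submodule.mem_map_of_mem (f := LinearMap.mulRight R x) hy
      rw [Submodule.map_smul''] at h1
      exact Submodule.smul_mono le_rfl le_top h1
    exact Submodule.mem_sup.2 ⟨L x, ⟨x, rfl⟩, -(y * x), hyx, by simp [L, add_mul]⟩
  have hsurj : Function.Surjective L := LinearMap.range_eq_top.1 hL
  have hinj : Function.Injective L := OrzechProperty.injective_of_surjective_endomorphism L hsurj
  obtain ⟨z, hz⟩ := hsurj 1
  refine ⟨⟨1 + y, z, hz, hinj ?_⟩, rfl⟩
  change (1 + y) * (z * (1 + y)) = (1 + y) * 1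
  rw [← mul_assoc, show (1 + y) * z = 1 from hz, one_mul, mul_one]

theorem exists_crt [Finite (MaximalSpectrum R)] (a : MaximalSpectrum R → A) :
    ∃ x : A, ∀ m : MaximalSpectrum R, x - a m ∈ m.asIdeal • (⊤ : Submodule R A) := by
  classical
  haveI := Fintype.ofFinite (MaximalSpectrum R)
  have hpair : Pairwise fun i j : MaximalSpectrum R => IsCoprime i.asIdeal j.asIdeal := by
    intro i j hij
    exact Ideal.isCoprime_of_isMaximal fun h => hij (MaximalSpectrum.ext h)
  choose c hc using fun j : MaximalSpectrum R =>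
    Ideal.exists_forall_sub_mem_ideal hpair (fun i => if i = j then 1 else 0)
  refine ⟨∑ j, c j • a j, fun i => ?_⟩
  have hi : a i = ∑ j, (if i = j then (1 : R) else 0) • a j := by
    simp [ite_smul]
  rw [hi, ← Finset.sum_sub_distrib]
  exact Submodule.sum_mem _ fun j _ => by
    rw [← sub_smul]
    exact Submodule.smul_mem_smul (hc j i) trivial

/-- Residual splittings and idempotent lifting give a global splitting. -/
theorem exists_split [Finite (MaximalSpectrum R)] [IsAzumaya R A] {n : ℕ} (hn : 0 < n)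
    (hres : ∀ m : MaximalSpectrum R, ∃ π : A →ₐ[R] Matrix (Fin n) (Fin n) (R ⧸ m.asIdeal),
      Function.Surjective π ∧ ∀ x, π x = 0 ↔ x ∈ m.asIdeal • (⊤ : Submodule R A))
    (hlift : ∀ a : A, a * a - a ∈ Ideal.jacobson (⊥ : Ideal R) • (⊤ : Submodule R A) →
      ∃ e : A, e * e = e ∧ e - a ∈ Ideal.jacobson (⊥ : Ideal R) • (⊤ : Submodule R A)) :
    Nonempty (A ≃ₐ[R] Matrix (Fin n) (Fin n) R) := by
  classical
  choose π hπs hπk using hres
  let o : Fin n := ⟨0, hn⟩
  choose a₀ ha₀ using fun m => hπs m (Matrix.single o o 1)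
  obtain ⟨a, ha⟩ := exists_crt a₀
  have hπa : ∀ m, π m a = Matrix.single o o 1 := by
    intro m
    rw [← ha₀ m, ← sub_eq_zero, ← map_sub, hπk]
    exact ha m
  obtain ⟨e, he, hea⟩ := hlift a <| mem_jacobson_smul fun m hm => by
    rw [← hπk ⟨m, hm⟩, map_sub, map_mul, hπa, Matrix.single_mul_single_same, one_mul, sub_self]
  have hπe : ∀ m, π m e = Matrix.single o o 1 := by
    intro m
    rw [← hπa m, ← sub_eq_zero, ← map_sub, hπk]
    exact smul_mem_of_mem_jacobson m.isMaximal hea
  choose v₀ hv₀ using fun (j : Fin n) m => hπs m (Matrix.single j o 1)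
  choose v hv using fun j => exists_crt (v₀ j)
  have hπv : ∀ j m, π m (v j * e) = Matrix.single j o 1 := by
    intro j m
    have : π m (v j) = Matrix.single j o 1 := by
      rw [← hv₀ j m, ← sub_eq_zero, ← map_sub, hπk]
      exact hv j m
    rw [map_mul, this, hπe, Matrix.single_mul_single_same, one_mul]
  let P : Submodule R A := LinearMap.range (LinearMap.mulRight R e)
  have hPe : ∀ x ∈ P, x * e = x := by
    rintro _ ⟨y, rfl⟩
    simp [mul_assoc, he]
  haveI : Module.Finite R P := Module.Finite.of_surjective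
    (LinearMap.rangeRestrict (LinearMap.mulRight R e)) (LinearMap.surjective_rangeRestrict _)
  haveI : Module.Projective R P := by
    refine Module.Projective.of_split P.subtype (LinearMap.rangeRestrict (LinearMap.mulRight R e)) ?_
    ext x
    simpa using hPe x x.2
  have hP : ∀ (m : Ideal R) (x : P), (x : A) ∈ m • (⊤ : Submodule R A) →
      x ∈ m • (⊤ : Submodule R P) := by
    intro m x hx
    have h1 := Submodule.mem_map_of_mem
      (f := LinearMap.rangeRestrict (LinearMap.mulRight R e)) hx
    rw [Submodule.map_smul''] at h1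
    have h2 : LinearMap.rangeRestrict (LinearMap.mulRight R e) (x : A) = x :=
      Subtype.ext (hPe x x.2)
    rw [h2] at h1
    exact Submodule.smul_mono le_rfl le_top h1
  let Φ₀ : (Fin n → R) →ₗ[R] P :=
    ∑ j, (LinearMap.proj (R := R) j).smulRight ⟨v j * e, ⟨v j, rfl⟩⟩
  have hπΦ : ∀ (m : MaximalSpectrum R) (c : Fin n → R) (i k : Fin n),
      π m (Φ₀ c : A) i k = if k = o then Ideal.Quotient.mk m.asIdeal (c i) else 0 := by
    intro m c i k
    have : (Φ₀ c : A) = ∑ j, c j • (v j * e) := by simp [Φ₀]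
    rw [this, map_sum, Matrix.sum_apply]
    simp only [map_smul, hπv, Matrix.smul_apply, Matrix.single_apply]
    rw [Finset.sum_eq_single i]
    · by_cases h : k = o
      · simp [h, Algebra.smul_def]
      · simp [h, Ne.symm h]
    · intro j _ hj; simp [hj]
    · simp
  have hΦ : Function.Bijective Φ₀ := by
    refine bijective_of_mod Φ₀ (fun m hm x => ?_) (fun m hm c hc => ?_)
    · choose c hc using fun i => Ideal.Quotient.mk_surjective (π ⟨m, hm⟩ (x : A) i o)
      refine ⟨c, hP m _ ((hπk ⟨m, hm⟩ _).1 ?_)⟩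
      ext i k
      rw [AddSubgroupClass.coe_sub, map_sub, Matrix.sub_apply, hπΦ, Matrix.zero_apply, sub_eq_zero]
      by_cases h : k = o
      · rw [if_pos h, h]; exact (hc i).symm
      · rw [if_neg h, ← hPe x x.2, map_mul, hπe, Matrix.mul_single_apply_of_ne]
        exact h
    · have h1 := Submodule.mem_map_of_mem (f := P.subtype) hc
      rw [Submodule.map_smul''] at h1
      have h2 := (hπk ⟨m, hm⟩ _).2 (Submodule.smul_mono le_rfl le_top h1)
      have hci : ∀ i, c i ∈ m := fun i => by
        have := hπΦ ⟨m, hm⟩ c i o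
        rw [show π ⟨m, hm⟩ (Φ₀ c : A) = 0 from h2, if_pos rfl, Matrix.zero_apply] at this
        exact Ideal.Quotient.eq_zero_iff_mem.1 this.symm
      rw [pi_eq_sum_univ c]
      exact Submodule.sum_mem _ fun i _ => Submodule.smul_mem_smul (hci i) trivial
  let Φ : (Fin n → R) ≃ₗ[R] P := LinearEquiv.ofBijective Φ₀ hΦ
  let lm : A →ₐ[R] Module.End R P :=
    { toFun := fun x => LinearMap.restrict (LinearMap.mulLeft R x) (p := P) (q := P)
        (by rintro _ ⟨y, rfl⟩; exact ⟨x * y, by simp [mul_assoc]⟩)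
      map_one' := by ext y; simp
      map_mul' := fun x x' => by ext y; simp [mul_assoc]
      map_zero' := by ext y; simp
      map_add' := fun x x' => by ext y; simp [add_mul]
      commutes' := fun r => by ext y; simp [Algebra.smul_def, Module.algebraMap_end_apply] }
  let ρ : A →ₐ[R] Matrix (Fin n) (Fin n) R :=
    ((LinearMap.toMatrixAlgEquiv' (R := R) (n := Fin n)).toAlgHom.comp
      ((Φ.symm.conjAlgEquiv R).toAlgHom)).comp lm
  have hρ : ∀ (m : MaximalSpectrum R) (x : A) (i j : Fin n),
      Ideal.Quotient.mk m.asIdeal (ρ x i j) = π m x i j := by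
    intro m x i j
    have h1 : Φ₀ (fun k => ρ x k j) = lm x ⟨v j * e, ⟨v j, rfl⟩⟩ := by
      have h3 : (fun k => ρ x k j) = Φ.symm (lm x (Φ (Pi.single j 1))) := by
        funext k
        simp [ρ, LinearMap.toMatrixAlgEquiv'_apply, LinearEquiv.conjAlgEquiv_apply]
      have h4 : Φ (Pi.single j 1) = ⟨v j * e, ⟨v j, rfl⟩⟩ := by
        change Φ₀ (Pi.single j 1) = _
        simp [Φ₀, Pi.single_apply, ite_smul]
      rw [h3, h4]
      exact Φ.apply_symm_apply _
    have h2 := hπΦ m (fun k => ρ x k j) i o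
    rw [if_pos rfl, h1] at h2
    rw [← h2]
    change π m (x * (v j * e)) i o = _
    rw [map_mul, hπv, Matrix.mul_single_apply_same, mul_one]
  refine ⟨AlgEquiv.ofBijective ρ ?_⟩
  refine bijective_of_mod ρ.toLinearMap (fun m hm y => ?_) (fun m hm x hx => ?_)
  · obtain ⟨x, hx⟩ := hπs ⟨m, hm⟩ (y.map (Ideal.Quotient.mk m))
    refine ⟨x, ?_⟩
    rw [Matrix.matrix_eq_sum_single (y - ρ.toLinearMap x)]
    refine Submodule.sum_mem _ fun i _ => Submodule.sum_mem _ fun j _ => ?_
    have : (y - ρ.toLinearMap x) i j ∈ m := by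
      rw [← Ideal.Quotient.eq_zero_iff_mem, Matrix.sub_apply, map_sub, sub_eq_zero]
      exact ((hρ ⟨m, hm⟩ x i j).trans (by rw [hx]; rfl)).symm
    have hsingle : Matrix.single i j ((y - ρ.toLinearMap x) i j) =
        (y - ρ.toLinearMap x) i j • Matrix.single i j (1 : R) := by
      rw [Matrix.smul_single, smul_eq_mul, mul_one]
    rw [hsingle]
    exact Submodule.smul_mem_smul this trivial
  · rw [← hπk ⟨m, hm⟩]
    ext i j
    rw [← hρ ⟨m, hm⟩, Matrix.zero_apply, Ideal.Quotient.eq_zero_iff_mem]
    have h1 := Submodule.mem_map_of_mem (f := Matrix.entryLinearMap R R i j) hx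
    rw [Submodule.map_smul''] at h1
    exact Submodule.smul_le.2 (fun r hr z _ => m.mul_mem_right z hr) h1

/-- Skolem-Noether for matrix algebras over semilocal rings. -/
theorem exists_unit_conj_matrix [Finite (MaximalSpectrum R)] {n : ℕ}
    (ψ : Matrix (Fin n) (Fin n) R ≃ₐ[R] Matrix (Fin n) (Fin n) R) :
    ∃ U : (Matrix (Fin n) (Fin n) R)ˣ, ∀ x, ψ x = (U : Matrix (Fin n) (Fin n) R) * x * (↑U⁻¹ : Matrix (Fin n) (Fin n) R) := by
  classical
  rcases Nat.eq_zero_or_pos n with rfl | hn
  · exact ⟨1, fun x => Subsingleton.elim _ _⟩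
  let o : Fin n := ⟨0, hn⟩
  let E : Fin n → Fin n → Matrix (Fin n) (Fin n) R := fun i j => Matrix.single i j 1
  let f := ψ (E o o)
  have hcol : ∀ m : MaximalSpectrum R, ∃ i j, f i j ∉ m.asIdeal := by
    intro m
    by_contra hne
    push Not at hne
    let π : Matrix (Fin n) (Fin n) R →+* Matrix (Fin n) (Fin n) (R ⧸ m.asIdeal) :=
      (Ideal.Quotient.mk m.asIdeal).mapMatrix
    have hf0 : π f = 0 := by
      ext i j
      exact Ideal.Quotient.eq_zero_iff_mem.2 (hne i j)
    have hEi : ∀ i, π (ψ (E i i)) = 0 := by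
      intro i
      have : E i i = E i o * E o o * E o i := by simp [E]
      rw [this, map_mul ψ, map_mul ψ, map_mul π, map_mul π,
        show π (ψ (E o o)) = 0 from hf0, mul_zero, zero_mul]
    have h1 : π (ψ (∑ i, E i i)) = 0 := by simp [map_sum, hEi]
    have h2 : ∑ i, E i i = 1 := by
      ext a b
      rw [Matrix.sum_apply, Finset.sum_eq_single a]
      · simp [E, Matrix.single_apply, Matrix.one_apply]
      · intro i _ hi; simp [E, Matrix.single_apply, hi]
      · simp
    rw [h2, map_one, map_one] at h1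
    haveI : Nontrivial (R ⧸ m.asIdeal) := Ideal.Quotient.nontrivial_iff.2 m.isMaximal.ne_top
    have := congrFun (congrFun h1 o) o
    simp at this
  choose i₀ j₀ hij using hcol
  obtain ⟨v₀, hv₀⟩ : ∃ v₀ : Fin n → R, ∀ m : MaximalSpectrum R, ∀ k,
      v₀ k - (if k = j₀ m then 1 else 0) ∈ m.asIdeal := by
    have hpair : Pairwise fun i j : MaximalSpectrum R => IsCoprime i.asIdeal j.asIdeal := fun i j hij =>
      Ideal.isCoprime_of_isMaximal fun h => hij (MaximalSpectrum.ext h)
    choose v hv using fun k => Ideal.exists_forall_sub_mem_ideal hpair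
      (fun m : MaximalSpectrum R => if k = j₀ m then (1 : R) else 0)
    exact ⟨v, fun m k => hv k m⟩
  let v : Fin n → R := f.mulVec v₀
  let U : Matrix (Fin n) (Fin n) R := Matrix.of fun a i => (ψ (E i o)).mulVec v a
  have hUmul : ∀ x, U * x = ψ x * U := by
    intro x
    ext a i
    have hx : ∑ k, x k i • E k o = x * E i o := by
      ext p q
      simp only [Matrix.sum_apply, Matrix.smul_apply, E, Matrix.single_apply, smul_eq_mul]
      by_cases hq : o = q
      · subst hq
        simp [Matrix.mul_single_apply_same]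
      · rw [Matrix.mul_single_apply_of_ne (hbj := Ne.symm hq)]
        simp [hq]
    have hlin := congrArg (fun y => (ψ y).mulVec v a) hx
    simp only [map_sum, map_smul, map_mul, Matrix.sum_mulVec, Matrix.smul_mulVec,
      Finset.sum_apply, Pi.smul_apply, smul_eq_mul, ← Matrix.mulVec_mulVec] at hlin
    simp only [Matrix.mul_apply, U, Matrix.of_apply]
    refine Eq.trans ?_ hlin
    exact Finset.sum_congr rfl fun k _ => mul_comm _ _
  have hfv : f.mulVec v = v := by
    change f.mulVec (f.mulVec v₀) = _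
    rw [Matrix.mulVec_mulVec]
    simp only [f, ← map_mul]
    simp [E, v, f]
  have hdet : IsUnit U.det := by
    by_contra hu
    obtain ⟨m, hm, hdm⟩ := exists_max_ideal_of_mem_nonunits hu
    let π : R →+* R ⧸ m := Ideal.Quotient.mk m
    letI := Ideal.Quotient.field m
    have hd0 : (U.map π).det = 0 := by
      rw [show U.map π = π.mapMatrix U from rfl, ← RingHom.map_det]
      exact Ideal.Quotient.eq_zero_iff_mem.2 hdm
    obtain ⟨c, hc, hUc⟩ := Matrix.exists_mulVec_eq_zero_iff.2 hd0
    obtain ⟨j, hj⟩ : ∃ j, c j ≠ 0 := Function.ne_iff.1 hc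
    have h1 : (U.map π).mulVec ((Matrix.single o j 1).mulVec c) = 0 := by
      have hx := congrArg (fun M : Matrix (Fin n) (Fin n) R => M.map π) (hUmul (E o j))
      simp only [Matrix.map_mul] at hx
      have hE : (E o j).map π = Matrix.single o j 1 := by
        ext p q; simp [E, Matrix.single_apply, apply_ite π]
      rw [← hE, Matrix.mulVec_mulVec, hx, ← Matrix.mulVec_mulVec, hUc, Matrix.mulVec_zero]
    have h2 : ∀ a, π (v a) = 0 := by
      intro a
      have h3 := congrFun h1 a
      rw [Matrix.single_mulVec, Pi.zero_apply] at h3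
      have h4 : π (U a o) * c j = 0 := by
        simp only [Matrix.mulVec, dotProduct, Matrix.map_apply] at h3
        rw [Finset.sum_eq_single o] at h3
        · simpa using h3
        · intro x _ hx; simp [hx]
        · simp
      have h5 : U a o = v a := by simp [U, f, E] at hfv ⊢; exact congrFun hfv a
      rw [← h5]
      exact (mul_eq_zero.1 h4).resolve_right hj
    have h6 : π (v (i₀ ⟨m, hm⟩)) = π (f (i₀ ⟨m, hm⟩) (j₀ ⟨m, hm⟩)) := by
      have hv' : ∀ k, π (v₀ k) = if k = j₀ ⟨m, hm⟩ then 1 else 0 := fun k => by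
        have := Ideal.Quotient.eq.2 (hv₀ ⟨m, hm⟩ k)
        simpa [π, apply_ite π] using this
      simp only [v, Matrix.mulVec, dotProduct, map_sum, map_mul, hv']
      simp
    exact hij ⟨m, hm⟩ (Ideal.Quotient.eq_zero_iff_mem.1 (h6 ▸ h2 _))
  let Uu : (Matrix (Fin n) (Fin n) R)ˣ := ((Matrix.isUnit_iff_isUnit_det U).2 hdet).unit
  refine ⟨Uu, fun x => ?_⟩
  have : (Uu : Matrix (Fin n) (Fin n) R) * x = ψ x * Uu := by
    simp only [Uu, IsUnit.unit_spec]; exact hUmul x
  rw [this, mul_assoc, Units.mul_inv, mul_one]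

end

end Groth.Agent.Azu26
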