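import Groth.Agent.Azu26.Semilocal
import Groth.Agent.Hens22.Idempotents
import Groth.Agent.Csa25.Wedderburn
import Mathlib.RingTheory.Henselian
import Mathlib.FieldTheory.PurelyInseparable.Basic
import Mathlib.RingTheory.Spectrum.Prime.FreeLocus
import Mathlib.RingTheory.LocalRing.ResidueField.Basic
import Mathlib.LinearAlgebra.TensorProduct.Quotient
import Mathlib.RingTheory.Adjoin.Polynomial.Basic

/-! Azumaya algebras over rings integral over a strictly henselian local ring split. -/

namespace Groth.Agent.Azu26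

open scoped TensorProduct
open Polynomial

universe u v w

section Residual

variable {R : Type u} [CommRing R] {A : Type v} [Ring A] [Algebra R A]

theorem exists_residual (hA : IsAzumaya R A) {n : ℕ}
    (hrk : ∀ p : PrimeSpectrum R, Module.rankAtStalk (R := R) A p = n ^ 2)
    (m : MaximalSpectrum R)
    (hk : ∀ (k : Type u) [Field k] [Algebra R k], Function.Surjective (algebraMap R k) →
      RingHom.ker (algebraMap R k) = m.asIdeal → IsSepClosed k) :
    ∃ π : A →ₐ[R] Matrix (Fin n) (Fin n) (R ⧸ m.asIdeal),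
      Function.Surjective π ∧ ∀ x, π x = 0 ↔ x ∈ m.asIdeal • (⊤ : Submodule R A) := by
  letI := Ideal.Quotient.field m.asIdeal
  haveI : IsSepClosed (R ⧸ m.asIdeal) :=
    hk _ Ideal.Quotient.mk_surjective Ideal.mk_ker
  haveI := isAzumaya_baseChange R (R ⧸ m.asIdeal) A
  haveI := isSimpleRing_of_field (R ⧸ m.asIdeal) ((R ⧸ m.asIdeal) ⊗[R] A)
  obtain ⟨N, hN, ⟨e⟩⟩ := Csa25.exists_algEquiv_matrix_of_isSepClosed (R ⧸ m.asIdeal)
    ((R ⧸ m.asIdeal) ⊗[R] A)
  have hdim : N = n := by
    have h1 : Module.rankAtStalk (R := R ⧸ m.asIdeal) ((R ⧸ m.asIdeal) ⊗[R] A)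
        (⟨⊥, Ideal.bot_prime⟩ : PrimeSpectrum (R ⧸ m.asIdeal)) = n ^ 2 := by
      rw [Module.rankAtStalk_baseChange, hrk]
    rw [Module.rankAtStalk_eq_finrank_of_free, Pi.natCast_apply, e.toLinearEquiv.finrank_eq,
      Module.finrank_matrix, Fintype.card_fin, Module.finrank_self, mul_one, ← sq] at h1
    exact (Nat.pow_left_injective two_ne_zero) h1
  subst hdim
  let π : A →ₐ[R] Matrix (Fin N) (Fin N) (R ⧸ m.asIdeal) :=
    (e.toAlgHom.restrictScalars R).comp Algebra.TensorProduct.includeRight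
  refine ⟨π, fun y => ?_, fun x => ?_⟩
  · have hsur : ∀ z : (R ⧸ m.asIdeal) ⊗[R] A, ∃ x : A, (1 : R ⧸ m.asIdeal) ⊗ₜ[R] x = z := by
      intro z
      induction z using TensorProduct.induction_on with
      | zero => exact ⟨0, by simp⟩
      | tmul c a =>
        obtain ⟨r, rfl⟩ := Ideal.Quotient.mk_surjective c
        exact ⟨r • a, by
          rw [← TensorProduct.smul_tmul, Algebra.smul_def, mul_one]; rfl⟩
      | add z z' hz hz' =>
        obtain ⟨a, rfl⟩ := hz
        obtain ⟨a', rfl⟩ := hz'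
        exact ⟨a + a', TensorProduct.tmul_add _ _ _⟩
    obtain ⟨x, hx⟩ := hsur (e.symm y)
    exact ⟨x, by simp [π, hx]⟩
  · have h1 : π x = 0 ↔ (1 : R ⧸ m.asIdeal) ⊗ₜ[R] x = 0 := by
      simp [π]
    have h2 := TensorProduct.quotTensorEquivQuotSMul_mk_tmul (R := R) m.asIdeal 1 x
    rw [map_one, one_smul] at h2
    rw [h1, ← (TensorProduct.quotTensorEquivQuotSMul A m.asIdeal).map_eq_zero_iff, h2,
      Submodule.Quotient.mk_eq_zero]

end Residual

section Henselian

variable {H : Type u} [CommRing H] [HenselianLocalRing H]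
variable {R : Type v} [CommRing R] [Algebra H R] [Algebra.IsIntegral H R]
variable {A : Type w} [Ring A] [Algebra R A]

theorem comap_eq_maximalIdeal (m : MaximalSpectrum R) :
    m.asIdeal.comap (algebraMap H R) = IsLocalRing.maximalIdeal H :=
  IsLocalRing.eq_maximalIdeal
    (Ideal.isMaximal_comap_of_isIntegral_of_isMaximal (I := m.asIdeal))

theorem isSepClosed_residue [IsSepClosed (IsLocalRing.ResidueField H)] (m : MaximalSpectrum R)
    (k : Type v) [Field k] [Algebra R k] (hs : Function.Surjective (algebraMap R k))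
    (hk : RingHom.ker (algebraMap R k) = m.asIdeal) : IsSepClosed k := by
  letI : Algebra H k := ((algebraMap R k).comp (algebraMap H R)).toAlgebra
  haveI : IsScalarTower H R k := IsScalarTower.of_algebraMap_eq fun _ => rfl
  let g : IsLocalRing.ResidueField H →+* k :=
    Ideal.Quotient.lift (IsLocalRing.maximalIdeal H) (algebraMap H k) fun x hx => by
      rw [← comap_eq_maximalIdeal m, Ideal.mem_comap, ← hk] at hx
      exact hx
  letI : Algebra (IsLocalRing.ResidueField H) k := g.toAlgebra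
  haveI : IsScalarTower H (IsLocalRing.ResidueField H) k :=
    IsScalarTower.of_algebraMap_eq fun _ => rfl
  haveI : Algebra.IsIntegral H k := ⟨fun x => by
    obtain ⟨r, rfl⟩ := hs x
    exact (Algebra.IsIntegral.isIntegral (R := H) r).map (IsScalarTower.toAlgHom H R k)⟩
  haveI : Algebra.IsIntegral (IsLocalRing.ResidueField H) k :=
    ⟨fun x => (Algebra.IsIntegral.isIntegral (R := H) x).tower_top⟩
  exact Algebra.IsAlgebraic.isSepClosed (F := IsLocalRing.ResidueField H)

/-- Idempotents lift from `A ⧸ J A` to `A`. -/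
theorem exists_idempotent_lift_alg [Module.Finite R A] [Algebra H A] [IsScalarTower H R A]
    (a : A) (ha : a * a - a ∈ Ideal.jacobson (⊥ : Ideal R) • (⊤ : Submodule R A)) :
    ∃ e : A, e * e = e ∧ e - a ∈ Ideal.jacobson (⊥ : Ideal R) • (⊤ : Submodule R A) := by
  classical
  set J := Ideal.jacobson (⊥ : Ideal R) • (⊤ : Submodule R A) with hJ
  have hJmul : ∀ y ∈ J, ∀ z : A, z * y ∈ J := by
    intro y hy z
    have h1 := Submodule.mem_map_of_mem (f := LinearMap.mulLeft R z) hy
    rw [hJ, Submodule.map_smul''] at h1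
    exact Submodule.smul_mono le_rfl le_top h1
  have hint : ∀ z : A, IsIntegral H z := fun z => isIntegral_trans z (IsIntegral.of_finite R z)
  let χ₀ : H[X] →ₐ[H] A := Polynomial.aeval a
  let C := H[X] ⧸ RingHom.ker χ₀
  let χ : C →ₐ[H] A := Ideal.Quotient.liftₐ _ χ₀ fun x hx => hx
  have hχmk : ∀ x, χ (Ideal.Quotient.mk _ x) = χ₀ x := fun x => rfl
  have hχinj : Function.Injective χ := by
    rw [injective_iff_map_eq_zero]
    intro x hx
    obtain ⟨x, rfl⟩ := Ideal.Quotient.mk_surjective x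
    exact Ideal.Quotient.eq_zero_iff_mem.2 hx
  haveI : Algebra.IsIntegral H C := ⟨fun x => (isIntegral_algHom_iff χ hχinj).1 (hint _)⟩
  let ac : C := Ideal.Quotient.mk _ X
  have hac : χ ac = a := by simp [ac, hχmk, χ₀]
  have hjac : ∀ x : C, χ x ∈ J → x ∈ Ideal.jacobson (⊥ : Ideal C) := by
    intro x hx
    rw [Ideal.mem_jacobson_bot]
    intro y
    have hmem : χ (x * y) ∈ J := by rw [mul_comm, map_mul]; exact hJmul _ hx _
    obtain ⟨w, hw⟩ := isUnit_one_add (R := R) hmem
    obtain ⟨p, hp, hp0⟩ := hint (↑w⁻¹ : A)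
    obtain ⟨q, hq⟩ : ∃ q : C, χ q = (↑w⁻¹ : A) := by
      have hpow : ∀ i, ∀ d : ℕ, i + 1 ≤ d →
          ∃ q : C, χ q = (↑w : A) ^ d * (↑w⁻¹ : A) ^ (i + 1) := by
        intro i d hd
        refine ⟨(x * y + 1) ^ (d - (i + 1)), ?_⟩
        rw [map_pow, map_add, map_one]
        have hc : χ (x * y) + 1 = (w : A) := by rw [hw, add_comm]
        rw [hc]
        conv_rhs => rw [show d = (d - (i + 1)) + (i + 1) by omega]
        rw [← Units.val_pow_eq_pow_val, ← Units.val_pow_eq_pow_val, ← Units.val_pow_eq_pow_val,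
          ← Units.val_mul, inv_pow, pow_add, mul_inv_cancel_right]
      rcases Nat.eq_zero_or_pos p.natDegree with h0 | h0
      · have : p = 1 := hp.natDegree_eq_zero.1 h0
        rw [this, eval₂_one] at hp0
        exact ⟨0, by rw [map_zero]; haveI := subsingleton_of_zero_eq_one hp0.symm; exact Subsingleton.elim _ _⟩
      set d := p.natDegree with hd
      choose q hq using fun i : Finset.range d => hpow i d (by
        have := Finset.mem_range.1 i.2; omega)
      refine ⟨-∑ i : Finset.range d, algebraMap H C (p.coeff i) * q i, ?_⟩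
      rw [eval₂_eq_sum_range, Finset.sum_range_succ, hp.coeff_natDegree, map_one, one_mul] at hp0
      have h2 := congrArg (fun z => (↑w : A) ^ d * z * (↑w⁻¹ : A)) hp0
      simp only [mul_add, add_mul, mul_zero, zero_mul, Finset.mul_sum, Finset.sum_mul] at h2
      rw [map_neg, map_sum, neg_eq_iff_add_eq_zero]
      have h3 : (↑w : A) ^ d * (↑w⁻¹ : A) ^ d = 1 := by
        rw [← Units.val_pow_eq_pow_val, ← Units.val_pow_eq_pow_val, inv_pow, Units.mul_inv]
      rw [h3, one_mul] at h2
      rw [← h2, Finset.sum_coe_sort (Finset.range d)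
        (fun i => (↑w : A) ^ d * (algebraMap H A (p.coeff i) * (↑w⁻¹ : A) ^ i) * (↑w⁻¹ : A)) |>.symm]
      congr 1
      refine Finset.sum_congr rfl fun i _ => ?_
      rw [map_mul, AlgHom.commutes, hq, pow_succ]
      simp only [← mul_assoc]
      rw [Algebra.commutes (p.coeff i) ((↑w : A) ^ d)]
    refine IsUnit.of_mul_eq_one q (hχinj ?_)
    rw [map_mul, map_add, map_one, hq,
      show χ (x * y) + 1 = (w : A) by rw [hw, add_comm], Units.mul_inv]
  let I := IsLocalRing.maximalIdeal H
  let IC := I.map (algebraMap H C)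
  have hrad : ∀ x : C, χ x ∈ J → x ∈ IC.radical := by
    intro x hx
    rw [Ideal.radical_eq_sInf, Submodule.mem_sInf]
    rintro (P : Ideal C) ⟨hle, hP⟩
    haveI : P.IsPrime := hP
    have hPm : P.IsMaximal := by
      refine Ideal.isMaximal_of_isIntegral_of_isMaximal_comap (R := H) P ?_
      rw [← (IsLocalRing.maximalIdeal.isMaximal H).eq_of_le
        (Ideal.IsPrime.ne_top (Ideal.IsPrime.comap (algebraMap H C))) (Ideal.map_le_iff_le_comap.1 hle)]
      exact IsLocalRing.maximalIdeal.isMaximal H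
    exact Submodule.mem_sInf.1 (hjac x hx) P ⟨bot_le, hPm⟩
  let qC : C ⧸ IC →+* C ⧸ IC.radical := Ideal.Quotient.factor Ideal.le_radical
  have hnil : ∀ x ∈ RingHom.ker qC, IsNilpotent x := by
    intro x hx
    obtain ⟨x, rfl⟩ := Ideal.Quotient.mk_surjective x
    rw [RingHom.mem_ker, Ideal.Quotient.factor_mk, Ideal.Quotient.eq_zero_iff_mem] at hx
    obtain ⟨N, hN⟩ := hx
    exact ⟨N, by rw [← map_pow, Ideal.Quotient.eq_zero_iff_mem]; exact hN⟩
  obtain ⟨ē, hē, hēa⟩ := exists_isIdempotentElem_eq_of_ker_isNilpotent qC hnil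
    (Ideal.Quotient.mk IC.radical ac)
    ⟨Ideal.Quotient.mk IC ac, Ideal.Quotient.factor_mk _ _⟩ (by
      rw [IsIdempotentElem, ← map_mul, Ideal.Quotient.eq]
      exact hrad _ (by rw [map_sub, map_mul, hac]; exact ha))
  obtain ⟨e₁, rfl⟩ := Ideal.Quotient.mk_surjective ē
  obtain ⟨ε, hε, hεe⟩ := Hens22.exists_idempotent_lift I (B := C) (e := e₁) (by
    rw [IsIdempotentElem, ← map_mul, Ideal.Quotient.eq] at hē
    exact hē)
  have hεa : ε - ac ∈ IC.radical := by
    rw [Ideal.Quotient.factor_mk, Ideal.Quotient.eq] at hēa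
    have e : ε - ac = (ε - e₁) + (e₁ - ac) := by ring
    rw [e]
    exact add_mem (Ideal.le_radical hεe) hēa
  obtain ⟨N, hN⟩ := hεa
  have hIJ : ∀ x ∈ IC, χ x ∈ J := by
    intro x hx
    induction hx using Submodule.span_induction with
    | mem y hy =>
      obtain ⟨h, hh, rfl⟩ := hy
      rw [AlgHom.commutes, IsScalarTower.algebraMap_apply H R A, Algebra.algebraMap_eq_smul_one]
      refine Submodule.smul_mem_smul (Ideal.mem_sInf.2 fun {m} hm => ?_) trivial
      have := comap_eq_maximalIdeal (H := H) ⟨m, hm.2⟩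
      rw [SetLike.ext_iff] at this
      exact (this h).2 hh
    | zero => simp [J]
    | add y z _ _ hy hz => rw [map_add]; exact add_mem hy hz
    | smul c y _ hy => rw [smul_eq_mul, map_mul]; exact hJmul _ hy _
  refine ⟨χ ε, by rw [← map_mul, hε.eq], ?_⟩
  have hd : ∀ j, (ε - ac) - (ε - ac) ^ (2 * j + 1) ∈ Ideal.span {ac * ac - ac} := by
    intro j
    rw [← Ideal.Quotient.eq]
    have h1 : Ideal.Quotient.mk (Ideal.span {ac * ac - ac}) (ac * ac) =
        Ideal.Quotient.mk _ ac := Ideal.Quotient.eq.2 (Ideal.subset_span rfl)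
    have h2 : ∀ (E F : C ⧸ Ideal.span {ac * ac - ac}), E * E = E → F * F = F →
        (E - F) ^ (2 * j + 1) = E - F := by
      intro E F hE hF
      have h3 : (E - F) ^ 2 * (E - F) = E - F := by linear_combination (E - 3 * F + 1) * hE + (3 * E - F - 1) * hF
      induction j with
      | zero => simp
      | succ j ih =>
        rw [show 2 * (j + 1) + 1 = 2 + (2 * j + 1) by ring, pow_add, ih, h3]
    rw [map_sub, map_pow, map_sub]
    exact (h2 _ _ ((map_mul _ _ _).symm.trans (congrArg _ hε.eq)) ((map_mul _ _ _).symm.trans h1)).symm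
  have hmem : (ε - ac) ^ (2 * N + 1) ∈ IC := IC.pow_mem_of_pow_mem hN (by omega)
  obtain ⟨c, hc⟩ := Ideal.mem_span_singleton'.1 (hd N)
  have h4 : χ (ε - ac) ∈ J := by
    have e : ε - ac = c * (ac * ac - ac) + (ε - ac) ^ (2 * N + 1) := by rw [hc]; ring
    rw [e, map_add, map_mul, map_sub, map_mul, hac]
    exact add_mem (hJmul _ ha _) (hIJ _ hmem)
  rwa [map_sub, hac] at h4

theorem exists_split_strict [IsSepClosed (IsLocalRing.ResidueField H)]
    [Finite (MaximalSpectrum R)] (hA : IsAzumaya R A) {n : ℕ} (hn : 0 < n)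
    (hrk : ∀ p : PrimeSpectrum R, Module.rankAtStalk (R := R) A p = n ^ 2) :
    Nonempty (A ≃ₐ[R] Matrix (Fin n) (Fin n) R) := by
  letI : Algebra H A := Algebra.compHom A (algebraMap H R)
  haveI : IsScalarTower H R A := IsScalarTower.of_algebraMap_eq fun _ => rfl
  exact exists_split hn
    (fun m => exists_residual hA hrk m
      (fun k _ _ hs hk => isSepClosed_residue (H := H) m k hs hk))
    (fun a ha => exists_idempotent_lift_alg (H := H) a ha)

end Henselian

end Groth.Agent.Azu26
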