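import Mathlib.Algebra.Azumaya.Basic
import Mathlib.RingTheory.TwoSidedIdeal.Operations
import Mathlib.RingTheory.SimpleRing.Basic
import Mathlib.LinearAlgebra.FiniteDimensional.Defs
import Mathlib.RingTheory.TensorProduct.Finite
import Mathlib.Algebra.Module.Projective
import Mathlib.RingTheory.Nakayama
import Mathlib.RingTheory.Finiteness.Projective
import Mathlib.LinearAlgebra.Basis.VectorSpace
import Mathlib.LinearAlgebra.Dual.Lemmas

/-! Azumaya algebras over commutative rings: base change, centre, endomorphism algebras. -/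

namespace Groth.Agent.Azu26

open scoped TensorProduct
open MulOpposite

universe u v w

section

variable (R : Type u) [CommRing R] (A : Type v) [Ring A] [Algebra R A]

theorem exists_dualBasis [Module.Projective R A] [Module.Finite R A] :
    ∃ (n : ℕ) (φ : Fin n → (A →ₗ[R] R)) (e : Fin n → A), ∀ x, ∑ i, φ i x • e i = x := by
  obtain ⟨n, f, g, hf, hfg, hfg'⟩ := Module.Finite.exists_comp_eq_id_of_projective R A
  refine ⟨n, fun i => (LinearMap.proj i).comp g, fun i => f (Pi.single i 1), fun x => ?_⟩
  have := LinearMap.congr_fun hfg' x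
  simp only [LinearMap.comp_apply, LinearMap.id_apply] at this
  conv_rhs => rw [← this, pi_eq_sum_univ (g x)]
  simp only [map_sum, map_smul, LinearMap.comp_apply, LinearMap.proj_apply]
  refine Finset.sum_congr rfl fun i _ => ?_
  congr 2
  ext j
  simp [Pi.single_apply, eq_comm]

theorem exists_functional_one [IsAzumaya R A] : ∃ φ : A →ₗ[R] R, φ 1 = 1 := by
  obtain ⟨n, φ, e, he⟩ := exists_dualBasis R A
  let ev : (A →ₗ[R] R) →ₗ[R] R := LinearMap.applyₗ (1 : A)
  suffices h : LinearMap.range ev = ⊤ by
    obtain ⟨ψ, hψ⟩ : (1 : R) ∈ LinearMap.range ev := h ▸ trivial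
    exact ⟨ψ, hψ⟩
  let I : Ideal R := LinearMap.range ev
  have hle : (⊤ : Submodule R A) ≤ I • ⊤ := by
    intro x _
    have h1 : x = ∑ i, (φ i 1) • (e i * x) := by
      conv_lhs => rw [← one_mul x, ← he 1, Finset.sum_mul]
      simp only [smul_mul_assoc]
    rw [h1]
    exact Submodule.sum_mem _ fun i _ => Submodule.smul_mem_smul ⟨φ i, rfl⟩ trivial
  obtain ⟨r, hr, hr0⟩ :=
    Submodule.exists_sub_one_mem_and_smul_eq_zero_of_fg_of_le_smul I ⊤ Module.Finite.fg_top hle
  have : r = 0 := by
    refine FaithfulSMul.eq_of_smul_eq_smul (α := A) fun a => ?_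
    rw [hr0 a trivial, zero_smul]
  rw [this, zero_sub] at hr
  exact (Ideal.eq_top_iff_one I).2 (by simpa using I.neg_mem hr)

theorem mem_center_iff [IsAzumaya R A] {c : A} :
    (∀ x, c * x = x * c) ↔ c ∈ Set.range (algebraMap R A) := by
  refine ⟨fun hc => ?_, ?_⟩
  · obtain ⟨φ, hφ⟩ := exists_functional_one R A
    have h : c ⊗ₜ[R] op (1 : A) = (1 : A) ⊗ₜ[R] op c := by
      apply (IsAzumaya.bij (R := R) (A := A)).1
      ext x
      simp [hc x]
    let ev : A ⊗[R] Aᵐᵒᵖ →ₗ[R] A :=
      TensorProduct.lift (LinearMap.mk₂ R (fun a (b : Aᵐᵒᵖ) => φ (unop b) • a)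
        (fun a a' b => smul_add _ _ _) (fun r a b => smul_comm _ _ _)
        (fun a b b' => by simp [add_smul]) (fun r a b => by simp [mul_smul]))
    have := congrArg ev h
    simp only [ev, TensorProduct.lift.tmul, LinearMap.mk₂_apply, unop_op, hφ, one_smul] at this
    exact ⟨φ c, by rw [Algebra.algebraMap_eq_smul_one]; exact this.symm⟩
  · rintro ⟨r, rfl⟩ x
    exact Algebra.commutes r x

theorem algebraMap_injective [IsAzumaya R A] : Function.Injective (algebraMap R A) := by
  obtain ⟨φ, hφ⟩ := exists_functional_one R A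
  intro r s h
  have := congrArg φ h
  simpa [Algebra.algebraMap_eq_smul_one, hφ] using this

end

section BaseChange

variable (R : Type u) [CommRing R] (S : Type w) [CommRing S] [Algebra R S]
  (A : Type v) [Ring A] [Algebra R A]

theorem isAzumaya_baseChange [IsAzumaya R A] : IsAzumaya S (S ⊗[R] A) := by
  obtain ⟨φ₁, hφ₁⟩ := exists_functional_one R A
  haveI : FaithfulSMul S (S ⊗[R] A) := by
    refine ⟨fun {s t} h => ?_⟩
    have h' := congrArg (fun z => (TensorProduct.rid R S).toLinearMap
      (LinearMap.lTensor S φ₁ z)) (h ((1 : S) ⊗ₜ[R] (1 : A)))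
    simpa [TensorProduct.smul_tmul', hφ₁] using h'
  obtain ⟨n, φ, e, he⟩ := exists_dualBasis R A
  let coord : Fin n → (S ⊗[R] A →ₗ[S] S) := fun i =>
    LinearMap.liftBaseChange S ((Algebra.linearMap R S).comp (φ i))
  have hcoord : ∀ i (s : S) (a : A), coord i (s ⊗ₜ[R] a) = s * algebraMap R S (φ i a) := by
    intro i s a; simp [coord]
  have hsum : ∀ x, ∑ i, coord i x • ((1 : S) ⊗ₜ[R] e i) = x := by
    intro x
    induction x using TensorProduct.induction_on with
    | zero => simp
    | tmul s a =>
      simp only [hcoord, TensorProduct.smul_tmul', smul_eq_mul, mul_one]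
      conv_rhs => rw [← he a, TensorProduct.tmul_sum]
      refine Finset.sum_congr rfl fun i _ => ?_
      rw [mul_comm, ← Algebra.smul_def, TensorProduct.smul_tmul]
    | add x y hx hy => simp only [map_add, add_smul, Finset.sum_add_distrib, hx, hy]
  let μ : A ⊗[R] Aᵐᵒᵖ ≃ₗ[R] Module.End R A :=
    LinearEquiv.ofBijective (AlgHom.mulLeftRight R A).toLinearMap IsAzumaya.bij
  let M₀ := (S ⊗[R] A) ⊗[S] (S ⊗[R] A)ᵐᵒᵖ
  let J : A ⊗[R] Aᵐᵒᵖ →ₗ[R] M₀ :=
    TensorProduct.lift (LinearMap.mk₂ R
      (fun (a : A) (b : Aᵐᵒᵖ) => ((1 : S) ⊗ₜ[R] a) ⊗ₜ[S] op ((1 : S) ⊗ₜ[R] unop b))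
      (fun a a' b => by simp [TensorProduct.tmul_add, TensorProduct.add_tmul])
      (fun r a b => by
        rw [TensorProduct.tmul_smul, ← algebraMap_smul S r ((1 : S) ⊗ₜ[R] a),
          ← TensorProduct.smul_tmul', algebraMap_smul])
      (fun a b b' => by simp [TensorProduct.tmul_add])
      (fun r a b => by
        rw [unop_smul, TensorProduct.tmul_smul, ← algebraMap_smul S r ((1 : S) ⊗ₜ[R] unop b),
          op_smul, TensorProduct.tmul_smul, algebraMap_smul]))
  have hJ : ∀ (a : A) (b : Aᵐᵒᵖ),
      J (a ⊗ₜ[R] b) = ((1 : S) ⊗ₜ[R] a) ⊗ₜ[S] op ((1 : S) ⊗ₜ[R] unop b) := fun a b => rfl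
  have hJμ : ∀ (z : A ⊗[R] Aᵐᵒᵖ) (s : S) (a : A),
      AlgHom.mulLeftRight S (S ⊗[R] A) (J z) (s ⊗ₜ[R] a) = s ⊗ₜ[R] (μ z a) := by
    intro z s a
    induction z using TensorProduct.induction_on with
    | zero => simp
    | tmul c d => simp [μ, hJ, Algebra.TensorProduct.tmul_mul_tmul]
    | add c d hc hd => simp [hc, hd, TensorProduct.tmul_add]
  let Ψ : Module.End S (S ⊗[R] A) →ₗ[S] M₀ :=
    ∑ i, (LinearMap.liftBaseChange S
        (J.comp (μ.symm.toLinearMap.comp
          (LinearMap.smulRightₗ (R := R) (φ i))))).comp (LinearMap.applyₗ ((1 : S) ⊗ₜ[R] e i))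
  have hΨ : ∀ g, AlgHom.mulLeftRight S (S ⊗[R] A) (Ψ g) = g := by
    intro g
    apply LinearMap.ext
    intro x
    have key : ∀ i (y : S ⊗[R] A), AlgHom.mulLeftRight S (S ⊗[R] A)
        (LinearMap.liftBaseChange S (J.comp (μ.symm.toLinearMap.comp
          (LinearMap.smulRightₗ (R := R) (φ i)))) y) x = coord i x • y := by
      intro i y
      induction y using TensorProduct.induction_on with
      | zero => simp
      | tmul s a =>
        simp only [LinearMap.liftBaseChange_tmul, LinearMap.comp_apply, map_smul,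
          LinearMap.smul_apply, LinearEquiv.coe_coe]
        induction x using TensorProduct.induction_on with
        | zero => simp
        | tmul t b =>
          rw [hJμ, LinearEquiv.apply_symm_apply, hcoord]
          simp only [LinearMap.smulRightₗ_apply, LinearMap.smulRight_apply,
            TensorProduct.smul_tmul', smul_eq_mul]
          rw [← TensorProduct.smul_tmul, Algebra.smul_def]
          congr 1
          ring
        | add x y hx hy => simp only [map_add, add_smul, smul_add, hx, hy]
      | add a b ha hb => simp only [map_add, LinearMap.add_apply, smul_add, ha, hb]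
    simp only [Ψ, LinearMap.coe_sum, Finset.sum_apply, LinearMap.comp_apply, map_sum,
      LinearMap.sum_apply, LinearMap.applyₗ_apply_apply, key, ← map_smul g]
    rw [← map_sum, hsum]
  refine { bij := ⟨fun z z' h => ?_, fun g => ⟨Ψ g, hΨ g⟩⟩ }
  suffices hleft : ∀ z, Ψ (AlgHom.mulLeftRight S (S ⊗[R] A) z) = z by
    rw [← hleft z, ← hleft z', h]
  have hgen : ∀ (a b : A),
      Ψ (AlgHom.mulLeftRight S (S ⊗[R] A) (((1 : S) ⊗ₜ[R] a) ⊗ₜ[S] op ((1 : S) ⊗ₜ[R] b))) =
        ((1 : S) ⊗ₜ[R] a) ⊗ₜ[S] op ((1 : S) ⊗ₜ[R] b) := by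
    intro a b
    have h1 : ∑ i, (LinearMap.smulRightₗ (R := R) (φ i)) (a * e i * b) = μ (a ⊗ₜ[R] op b) := by
      apply LinearMap.ext
      intro x
      have hμ : μ (a ⊗ₜ[R] op b) x = a * x * b := by simp [μ]
      simp only [LinearMap.sum_apply, LinearMap.smulRightₗ_apply, LinearMap.smulRight_apply, hμ]
      conv_rhs => rw [← he x]
      simp only [Finset.mul_sum, Finset.sum_mul, mul_smul_comm, smul_mul_assoc]
    simp only [Ψ, LinearMap.coe_sum, Finset.sum_apply, LinearMap.comp_apply,
      LinearMap.applyₗ_apply_apply, AlgHom.mulLeftRight_apply, unop_op,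
      Algebra.TensorProduct.tmul_mul_tmul, mul_one, LinearMap.liftBaseChange_tmul, one_smul]
    rw [← map_sum J, ← map_sum μ.symm.toLinearMap, h1]
    simp [hJ]
  intro z
  induction z using TensorProduct.induction_on with
  | zero => simp
  | add x y hx hy => rw [map_add, map_add, hx, hy]
  | tmul p q =>
    induction q using MulOpposite.rec' with
    | _ q =>
      induction p using TensorProduct.induction_on with
      | zero => simp
      | add x y hx hy => simp only [TensorProduct.add_tmul, map_add, hx, hy]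
      | tmul s a =>
        induction q using TensorProduct.induction_on with
        | zero => simp
        | add x y hx hy => simp only [op_add, TensorProduct.tmul_add, map_add, hx, hy]
        | tmul t b =>
          have h1 : (s ⊗ₜ[R] a) ⊗ₜ[S] op (t ⊗ₜ[R] b) =
              (s * t) • (((1 : S) ⊗ₜ[R] a) ⊗ₜ[S] op ((1 : S) ⊗ₜ[R] b)) := by
            rw [mul_smul, ← TensorProduct.tmul_smul, TensorProduct.smul_tmul', ← op_smul,
              TensorProduct.smul_tmul', TensorProduct.smul_tmul', smul_eq_mul, smul_eq_mul,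
              mul_one, mul_one]
          rw [h1, map_smul, map_smul, hgen]

end BaseChange

section Field

variable (k : Type u) [Field k] (A : Type v) [Ring A] [Algebra k A] [IsAzumaya k A]
include k

theorem nontrivial_of_field : Nontrivial A := by
  obtain ⟨φ, hφ⟩ := exists_functional_one k A
  refine ⟨⟨1, 0, fun h => ?_⟩⟩
  rw [h, map_zero] at hφ
  exact zero_ne_one hφ

theorem isSimpleRing_of_field : IsSimpleRing A := by
  haveI := nontrivial_of_field k A
  refine IsSimpleRing.of_eq_bot_or_eq_top fun I => or_iff_not_imp_left.2 fun hI => ?_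
  obtain ⟨a, haI, ha⟩ : ∃ a ∈ I, a ≠ 0 := by
    by_contra h
    push Not at h
    exact hI (eq_bot_iff.2 fun x hx => (TwoSidedIdeal.mem_bot A).2 (h x hx))
  obtain ⟨f, hf⟩ := Module.Projective.exists_dual_ne_zero k ha
  obtain ⟨z, hz⟩ := (IsAzumaya.bij (R := k) (A := A)).2 (((f a)⁻¹ • f).smulRight (1 : A))
  have hmem : ∀ w, AlgHom.mulLeftRight k A w a ∈ I := by
    intro w
    induction w using TensorProduct.induction_on with
    | zero => simp
    | tmul p q => simpa using I.mul_mem_right _ _ (I.mul_mem_left _ _ haI)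
    | add x y hx hy => simpa using I.add_mem hx hy
  have h1 := hmem z
  rw [hz] at h1
  simp [inv_mul_cancel₀ hf] at h1
  refine eq_top_iff.2 fun x _ => ?_
  simpa using I.mul_mem_left x 1 h1

theorem isCentral_of_field : Algebra.IsCentral k A := inferInstance

end Field

section EndProjective

variable (R : Type u) [CommRing R] (P : Type v) [AddCommGroup P] [Module R P]
  [Module.Finite R P] [Module.Projective R P] [FaithfulSMul R P]

theorem isAzumaya_end : IsAzumaya R (Module.End R P) := by
  obtain ⟨n, f, g, -, -, hfg⟩ := Module.Finite.exists_comp_eq_id_of_projective R P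
  let φ : Fin n → (P →ₗ[R] R) := fun i => (LinearMap.proj i).comp g
  let e : Fin n → P := fun i => f (Pi.single i 1)
  have he : ∀ x, ∑ i, φ i x • e i = x := by
    intro x
    have h := LinearMap.congr_fun hfg x
    simp only [LinearMap.comp_apply, LinearMap.id_apply] at h
    conv_rhs => rw [← h, ← Finset.univ_sum_single (g x), map_sum]
    refine Finset.sum_congr rfl fun i _ => ?_
    rw [← map_smul, ← Pi.single_smul', smul_eq_mul, mul_one]
    rfl
  let θ : Fin n → Fin n → Module.End R P := fun i j => (φ j).smulRight (e i)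
  have hθ : ∀ a : Module.End R P, ∑ i, ∑ j, φ i (a (e j)) • θ i j = a := by
    intro a
    ext x
    simp only [θ, LinearMap.sum_apply, LinearMap.smul_apply, LinearMap.smulRight_apply]
    rw [Finset.sum_comm]
    conv_rhs => rw [← he x, map_sum]
    refine Finset.sum_congr rfl fun j _ => ?_
    rw [map_smul]
    conv_rhs => rw [← he (a (e j)), Finset.smul_sum]
    exact Finset.sum_congr rfl fun i _ => smul_comm _ _ _
  haveI : FaithfulSMul R (Module.End R P) := by
    refine ⟨fun {r s} h => FaithfulSMul.eq_of_smul_eq_smul (α := P) fun x => ?_⟩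
    simpa using LinearMap.congr_fun (h 1) x
  haveI : Module.Finite R (Module.End R P) :=
    ⟨Submodule.fg_def.2 ⟨Set.range fun p : Fin n × Fin n => θ p.1 p.2, Set.finite_range _, by
      rw [eq_top_iff]
      intro a _
      rw [← hθ a]
      exact Submodule.sum_mem _ fun i _ => Submodule.sum_mem _ fun j _ =>
        Submodule.smul_mem _ _ (Submodule.subset_span ⟨(i, j), rfl⟩)⟩⟩
  haveI : Module.Projective R (Module.End R P) := by
    refine Module.Projective.of_split
      (LinearMap.pi fun p : Fin n × Fin n =>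
        (φ p.1).comp (LinearMap.applyₗ (R := R) (e p.2)))
      (∑ p : Fin n × Fin n, (LinearMap.proj (R := R) p).smulRight (θ p.1 p.2)) ?_
    refine LinearMap.ext fun a => ?_
    conv_rhs => rw [LinearMap.id_apply, ← hθ a]
    rw [← Fintype.sum_prod_type']
    simp
  refine { bij := ?_ }
  let Ψ : Module.End R (Module.End R P) →ₗ[R] Module.End R P ⊗[R] (Module.End R P)ᵐᵒᵖ :=
    ∑ i, ∑ j, ∑ k, ∑ l,
      ((φ k).comp ((LinearMap.applyₗ (R := R) (e l)).comp
        (LinearMap.applyₗ (R := R) (θ i j)))).smulRight (θ k i ⊗ₜ[R] op (θ j l))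
  refine Function.bijective_iff_has_inverse.2 ⟨Ψ, fun z => ?_, fun g => ?_⟩
  · induction z using TensorProduct.induction_on with
    | zero => simp
    | add x y hx hy => rw [map_add, map_add, hx, hy]
    | tmul a b =>
      induction b using MulOpposite.rec' with
      | _ b =>
        have hc : ∀ i j k l, φ k (a ((θ i j * b) (e l))) = φ j (b (e l)) * φ k (a (e i)) := by
          intro i j k l
          simp [θ, Module.End.mul_apply, map_smul]
        have hlhs : Ψ (AlgHom.mulLeftRight R (Module.End R P) (a ⊗ₜ[R] op b)) =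
            ∑ i, ∑ j, ∑ k, ∑ l,
              (φ j (b (e l)) * φ k (a (e i))) • (θ k i ⊗ₜ[R] op (θ j l)) := by
          simp only [← hc]
          simp [Ψ, mul_assoc, Module.End.mul_apply]
        have hrhs : a ⊗ₜ[R] op b = ∑ k, ∑ i, ∑ j, ∑ l,
              (φ j (b (e l)) * φ k (a (e i))) • (θ k i ⊗ₜ[R] op (θ j l)) := by
          conv_lhs => rw [← hθ a, ← hθ b]
          simp only [Finset.op_sum, TensorProduct.sum_tmul, TensorProduct.tmul_sum, op_smul,
            TensorProduct.tmul_smul, ← TensorProduct.smul_tmul', smul_smul, Finset.smul_sum]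
          rw [Finset.sum_congr rfl fun j _ => Finset.sum_comm, Finset.sum_comm]
          refine Finset.sum_congr rfl fun k _ => ?_
          rw [Finset.sum_congr rfl fun j _ => Finset.sum_comm, Finset.sum_comm]
        rw [hlhs, hrhs, Finset.sum_congr rfl fun i _ => Finset.sum_comm, Finset.sum_comm]
  · apply LinearMap.ext
    intro x
    simp only [Ψ, LinearMap.coe_sum, Finset.sum_apply, LinearMap.smulRight_apply,
      LinearMap.comp_apply, LinearMap.applyₗ_apply_apply, map_sum, map_smul,
      AlgHom.mulLeftRight_apply, unop_op, LinearMap.sum_apply, LinearMap.smul_apply]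
    have hxe : ∀ i j k l, θ k i * x * θ j l = φ i (x (e j)) • θ k l := by
      intro i j k l
      ext y
      simp [θ, smul_smul, mul_comm]
    simp only [hxe]
    conv_rhs => rw [← hθ x, map_sum]
    refine Finset.sum_congr rfl fun i _ => ?_
    rw [map_sum]
    refine Finset.sum_congr rfl fun j _ => ?_
    rw [map_smul]
    conv_rhs => rw [← hθ (g (θ i j)), Finset.smul_sum]
    simp only [Finset.smul_sum]
    exact Finset.sum_congr rfl fun k _ => Finset.sum_congr rfl fun l _ => smul_comm _ _ _

end EndProjective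

end Groth.Agent.Azu26
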